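import Groth.Agent.AlgSp.Space
import Groth.Agent.AlgSpB.Points
import Groth.Agent.AlgSpB.Open
import Groth.Agent.AlgSpD.HasAt
import Groth.Agent.AlgSpD.RelDim
import Groth.Agent.AlgSpCov.LocPBasic
import Groth.Agent.AlgSpCov.Instances
import Groth.Agent.StFib.LqfSlice.Scheme
import Groth.Agent.S10338
import Groth.Agent.S10340
import Groth.Agent.S10351
import Groth.Agent.AlgSpD.DecentDim
import Mathlib.AlgebraicGeometry.Morphisms.UniversallyOpen

/-!
# The lower dimension bound for universally closed morphisms of algebraic spaces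

* `exists_series_of_specializing`: chains of specializations lift along closed maps into one chart.
* `dim_add_le`: `dim V + r ≤ dim X` for a chart `V` of the target.
-/

set_option autoImplicit false

universe u

open CategoryTheory CategoryTheory.Limits AlgebraicGeometry Topology

set_option backward.isDefEq.respectTransparency false

namespace Groth.Agent.AlgSpCov.DimBound

open _root_.AlgSp
open Groth.Agent

variable {S : Scheme.{u}}

/-- A generizing map lifts a series of generizations above a given point. -/
theorem exists_lift_series {A B : Scheme.{u}} (g : A ⟶ B) (hg : GeneralizingMap g) :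
    ∀ (n : ℕ) (s : LTSeries ↥B), s.length = n → ∀ a : ↥A, g a = s.head →
      ∃ t : LTSeries ↥A, t.length = n ∧ t.head = a ∧ g t.last = s.last := by
  intro n
  induction n with
  | zero =>
    intro s hs a ha
    refine ⟨RelSeries.singleton _ a, rfl, rfl, ?_⟩
    rw [RelSeries.last_singleton, ha]
    exact congrArg s.toFun (Fin.ext (by simp [hs]))
  | succ n ih =>
    intro s hs a ha
    obtain ⟨t, ht, hta, htl⟩ := ih s.eraseLast (by simp [hs]) a (by simpa using ha)
    have hlt : s.eraseLast.last < s.last := s.eraseLast_last_rel_last (by omega)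
    obtain ⟨c, hc, hcb⟩ := hg (show s.last ⤳ g t.last from htl ▸ hlt.le)
    refine ⟨t.snoc c (lt_of_le_not_ge hc fun h' => ?_), by simp [ht], by simp [hta], by simp [hcb]⟩
    exact hlt.not_ge (show s.eraseLast.last ⤳ s.last from htl ▸ hcb ▸ (show t.last ⤳ c from h').map g.continuous)

/-- Specializations in a chain of the base lift along a closed map into one chart of the source. -/
theorem exists_series_of_specializing {P : Space S} (hP : IsDecent P.obj) {V : Over S}
    (q : P.obj ⟶ (yon S).obj V) (hq : IsClosedMap (Points.map q)) :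
    ∀ (n : ℕ) (l : LTSeries ↥V.left), l.length = n → ∀ p : Points P.obj,
      Points.toScheme V (Points.map q p) ⤳ l.last →
      ∃ (U : Over S) (a : (yon S).obj U ⟶ P.obj) (w : ↥U.left) (L : LTSeries ↥U.left),
        RepWith @Etale a ∧ Points.ofPt a w = p ∧ L.length = n ∧ w ⤳ L.last ∧
          Points.toScheme V (Points.map q (Points.ofPt a L.last)) = l.last := by
  have hdown : ∀ (p : Points P.obj) (v : ↥V.left), Points.toScheme V (Points.map q p) ⤳ v →
      ∃ p', p ⤳ p' ∧ Points.toScheme V (Points.map q p') = v := by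
    intro p v h
    have h' : Points.map q p ⤳ Points.ofScheme V v := by
      have e := h.map (Points.schemeHomeo V).continuous
      exact (Points.schemeHomeo V).apply_symm_apply (Points.map q p) ▸ e
    obtain ⟨p', hp', e⟩ := hq.specializingMap h'
    exact ⟨p', hp', by rw [e, Points.toScheme_ofScheme]⟩
  intro n
  induction n with
  | zero =>
    intro l hl p hp
    obtain ⟨p', hp', e⟩ := hdown p _ hp
    obtain ⟨U, a, u, ha, rfl⟩ := AlgSpD.exists_chart P p'
    obtain ⟨w, hw, hwp⟩ := AlgSpD.exists_lift_of_specializes P hP a ha u p hp'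
    exact ⟨U, a, w, RelSeries.singleton _ u, ha, hwp, rfl, by simpa using hw, by simpa using e⟩
  | succ n ih =>
    intro l hl p hp
    obtain ⟨p', hp', e⟩ := hdown p _ hp
    have hlt : l.eraseLast.last < l.last := l.eraseLast_last_rel_last (by omega)
    obtain ⟨U, a, w', L, ha, hw', hL, hwL, he⟩ := ih l.eraseLast (by simp [hl]) p' (by rw [e]; exact hlt.le)
    subst hw'
    obtain ⟨w, hw, hwp⟩ := AlgSpD.exists_lift_of_specializes P hP a ha w' p hp'
    refine ⟨U, a, w, L.snoc w' (lt_of_le_not_ge hwL fun h' => hlt.not_ge ?_), ha, hwp, by simp [hL],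
      by simpa using hw, by simpa using e⟩
    show l.eraseLast.last ⤳ l.last
    rw [← he, ← e]
    exact (((show L.last ⤳ w' from h').map (Points.continuous_ofPt a)).map (Points.continuous_map q)).map
      (Points.schemeHomeo V).symm.continuous

variable {X Y : Space S}

set_option maxHeartbeats 800000 in
/-- For a universally closed morphism of spaces with irreducible decent source: the dimension of a chart of the
target plus the generic transcendence degree is at most the dimension of the source. -/
theorem dim_add_le (f : X ⟶ Y) (hXd : IsDecent X.obj) (hYd : IsDecent Y.obj)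
    (hft : LocP @LocallyOfFiniteType f.hom) (hc : IsUnivClosedMor f.hom)
    {x : Points X.obj} (hx : IsGenericPoint x Set.univ) (hfx : IsGenericPoint (Points.map f.hom x) Set.univ)
    (r : ℕ) (hr : HasAtMor (fun _ _ h u => Dual3.resTrdeg h u = (r : Cardinal.{u})) f.hom x)
    {V : Over S} (b : (yon S).obj V ⟶ Y.obj) (hb : RepWith @Etale b) (l : LTSeries ↥V.left) :
    ((l.length + r : ℕ) : WithBot ℕ∞) ≤ dim X.obj := by
  have := S10338.result X hXd
  have := S10338.result Y hYd
  let P : Space S := ⟨pullback f.hom b,
    Groth.Agent.AlgSp.isAlgSpace_pullback Y.property X.property (IsAlgSpace.yon_obj V) f.hom b⟩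
  let g' : P ⟶ X := ObjectProperty.homMk (pullback.fst f.hom b)
  let q : P.obj ⟶ (yon S).obj V := pullback.snd f.hom b
  have sq : IsPullback g'.hom q f.hom b := IsPullback.of_hasPullback _ _
  have hg' : RepWith @Etale g'.hom := MorphismProperty.of_isPullback sq.flip hb
  have hP : IsDecent P.obj := S10351.result g' hg'.1 hXd
  have hqc : IsClosedMap (Points.map q) := hc (IsAlgSpace.yon_obj V) b _ q sq
  -- the generic point over the top of the chain
  obtain ⟨η, hη, hηt⟩ : ∃ η : ↥V.left, (∀ z, z ⤳ η → z = η) ∧ η ⤳ l.last := by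
    refine ⟨(isIrreducible_irreducibleComponent (x := l.last)).genericPoint, fun z hz => ?_, ?_⟩
    · have h1 := (isIrreducible_irreducibleComponent (x := l.last)).isGenericPoint_genericPoint
        isClosed_irreducibleComponent
      have h2 := (irreducibleComponent_mem_irreducibleComponents l.last).2 (isIrreducible_singleton (x := z)).closure
        (h1.def.symm.le.trans (specializes_iff_closure_subset.1 hz))
      exact (hz.antisymm (h1.specializes (h2 (subset_closure rfl)))).eq
    · exact ((isIrreducible_irreducibleComponent (x := l.last)).isGenericPoint_genericPoint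
        isClosed_irreducibleComponent).specializes mem_irreducibleComponent
  have hbη : Points.ofPt b η = Points.map f.hom x := by
    obtain ⟨z, hz, e⟩ := AlgSpD.exists_lift_of_specializes Y hYd b hb η _ (hfx.specializes trivial)
    rw [← hη z hz, e]
  obtain ⟨ζ, hζ1, hζ2⟩ := AlgSpB.exists_of_isPullback sq x (Points.ofScheme V η)
    (by rw [← Points.ofPt_eq_map_ofScheme]; exact hbη.symm)
  -- a chart of `P` at `ζ` and the chain in the generic fibre
  obtain ⟨U, a, u, ha, rfl⟩ := AlgSpD.exists_chart P ζ
  obtain ⟨h, hh⟩ := (yon S).map_surjective (a ≫ q)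
  have hag : RepWith @Etale (a ≫ g'.hom) := MorphismProperty.comp_mem _ _ _ ha hg'
  have hw : (a ≫ g'.hom) ≫ f.hom = (yon S).map h ≫ b := by rw [Category.assoc, sq.w, hh, Category.assoc]
  have hh_ofPt : ∀ t, Points.toScheme V (Points.map q (Points.ofPt a t)) = h.left t := fun t => by
    rw [Points.map_ofPt, ← hh, Points.toScheme_ofPt]
  have hu : h.left u = η := by rw [← hh_ofPt, hζ2, Points.toScheme_ofScheme]
  have := hft _ b h hag hb hw
  have hru : Dual3.resTrdeg h.left u = (r : Cardinal.{u}) := by
    rw [show x = Points.ofPt (a ≫ g'.hom) u by rw [← Points.map_ofPt, hζ1]] at hr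
    exact (AlgSpD.hasAtMor_iff_chart (AlgSpD.morEtaleInv_resTrdeg _) f hag hb hw u).1 hr
  obtain ⟨-, m, hm, hh', -, -⟩ := AlgSpD.exists_fibre_dims h.left u
  obtain rfl : m = r := Nat.cast_injective (R := Cardinal.{u}) (hm.symm.trans hru)
  obtain ⟨s, -, hs⟩ := Order.exists_series_of_le_height _ (le_of_eq hh'.symm)
  let ι := h.left.fiberι (h.left u)
  let K₀ : LTSeries ↥U.left := s.map ι fun c d hcd =>
    lt_of_le_not_ge ((show d ⤳ c from hcd.le).map ι.continuous) fun h' =>
      hcd.not_ge (ι.isEmbedding.isInducing.specializes_iff.1 (show ι c ⤳ ι d from h'))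
  have hK₀ : h.left K₀.head = η := by
    have := Set.mem_range_self (f := ι) s.head
    rw [Scheme.Hom.range_fiberι] at this
    exact (show h.left K₀.head = h.left u from this).trans hu
  -- the chain below
  obtain ⟨U', a', w, L, ha', hw', hL, hwL, -⟩ := exists_series_of_specializing hP q hqc l.length l rfl
    (Points.ofPt a K₀.head) (by rw [hh_ofPt, hK₀]; exact hηt)
  -- glue in a common chart
  obtain ⟨R, t₁, t₂, sR⟩ := AlgSpB.exists_pullback_yon (P.property.representable_from_yon a) a'
  obtain ⟨ρ, hρ₁, hρ₂⟩ := (AlgSpB.ofPt_eq_ofPt_iff sR K₀.head w).1 hw'.symm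
  have : Etale t₁.left := ha'.2 _ _ _ sR.flip
  have : Etale t₂.left := ha.2 _ _ _ sR
  have : LocallyQuasiFinite t₂.left := AlgSpCov.etale_le_locallyQuasiFinite _ _ t₂.left ‹Etale t₂.left›
  obtain ⟨K₁, hK₁, hK₁h, -⟩ := exists_lift_series t₁.left (Flat.generalizingMap t₁.left) _ K₀ rfl ρ hρ₁
  let K₂ : LTSeries ↥U'.left := K₁.map t₂.left fun c d hcd =>
    lt_of_le_not_ge ((show d ⤳ c from hcd.le).map t₂.left.continuous) fun h' =>
      hcd.ne' (StFib.LqfSlice.eq_of_specializes t₂.left (show d ⤳ c from hcd.le)
        ((show t₂.left c ⤳ t₂.left d from h').antisymm ((show d ⤳ c from hcd.le).map t₂.left.continuous)).eq.symm)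
  have hK₂ : K₂.head = w := by
    show t₂.left K₁.head = w
    rw [hK₁h, hρ₂]
  have hdim : ∀ M : LTSeries ↥U'.left, (M.length : WithBot ℕ∞) ≤ dim X.obj := fun M => by
    refine le_trans ?_ (le_iSup_of_le U' (le_iSup_of_le (a' ≫ g'.hom)
      (le_iSup_of_le (MorphismProperty.comp_mem _ _ _ ha' hg') le_rfl)))
    rw [show topologicalKrullDim ↥U'.left = Order.krullDim ↥U'.left from
      Order.krullDim_eq_of_orderIso irreducibleSetEquivPoints]
    exact Order.LTSeries.length_le_krullDim M
  have hlen : K₂.length = s.length := hK₁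
  by_cases hlast : L.last = K₂.head
  · refine le_trans (le_of_eq ?_) (hdim (L.smash K₂ hlast))
    simp [hL, hlen, hs]
  · have hlt : L.last < K₂.head := lt_of_le_not_ge (show L.last ≤ K₂.head by rw [hK₂]; exact hwL) fun h' =>
      hlast ((show L.last ⤳ K₂.head from h').antisymm (show K₂.head ⤳ L.last by rw [hK₂]; exact hwL)).eq
    refine le_trans ?_ (hdim (L.append K₂ hlt))
    simp only [RelSeries.append_length, hL, hlen, hs]
    exact_mod_cast Nat.le_succ _

end Groth.Agent.AlgSpCov.DimBound
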