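import Groth.Agent.AlgSpCov.CodimQf.Sch
import Mathlib.Order.KrullDimension

/-!
# Dimension of local rings on the source of a morphism of finite type

* `stalkDim_le_add`: `dim O_u ≤ dim O_{h u} + r` when the maximal points above `u` have transcendence degree at most `r`.
-/

set_option autoImplicit false
set_option linter.style.haveILetI false
set_option backward.isDefEq.respectTransparency false

universe u

open CategoryTheory AlgebraicGeometry

namespace Groth.Agent.AlgSpCov.DimBound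

open Groth.Agent Groth.Agent.CycLib

/-- A chain below a prime starts over a minimal prime and lives in the quotient by it. -/
theorem height_le_of_minimal {A : Type u} [CommRing A] (P : PrimeSpectrum A) (N : ℕ∞)
    (H : ∀ m : PrimeSpectrum A, m.asIdeal ∈ (⊥ : Ideal A).minimalPrimes → m ≤ P →
      ∀ Pb : PrimeSpectrum (A ⧸ m.asIdeal), PrimeSpectrum.comap (Ideal.Quotient.mk m.asIdeal) Pb = P →
        Order.height Pb ≤ N) : Order.height P ≤ N := by
  refine Order.height_le fun s hs => ?_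
  obtain ⟨m, hm, hle⟩ := Ideal.exists_minimalPrimes_le (I := (⊥ : Ideal A)) (J := s.head.asIdeal) bot_le
  let M : PrimeSpectrum A := ⟨m, hm.1.1⟩
  have hge : ∀ i, M ≤ s i := fun i => le_trans hle (s.monotone (Fin.zero_le i))
  let π := Ideal.Quotient.mk M.asIdeal
  have lift : ∀ q : PrimeSpectrum A, M ≤ q → ∃ qb, PrimeSpectrum.comap π qb = q := fun q hq => by
    have hk : (RingHom.ker π) ≤ q.asIdeal := by rw [Ideal.mk_ker]; exact hq
    refine ⟨⟨q.asIdeal.map π, Ideal.map_isPrime_of_surjective Ideal.Quotient.mk_surjective hk⟩, ?_⟩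
    apply PrimeSpectrum.ext
    show (q.asIdeal.map π).comap π = q.asIdeal
    rw [Ideal.comap_map_of_surjective _ Ideal.Quotient.mk_surjective, ← RingHom.ker_eq_comap_bot, sup_eq_left.2 hk]
  choose g hg using fun i => lift (s i) (hge i)
  have hg' : StrictMono g := fun i j hij => by
    have h1 : PrimeSpectrum.comap π (g i) < PrimeSpectrum.comap π (g j) := by
      rw [hg, hg]; exact s.strictMono hij
    have hsur : Function.Surjective π := Ideal.Quotient.mk_surjective
    refine lt_of_le_of_ne ?_ fun e => h1.ne (congrArg _ e)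
    exact (Ideal.comap_le_comap_iff_of_surjective π hsur _ _).1 h1.le
  let s' : LTSeries (PrimeSpectrum (A ⧸ M.asIdeal)) := LTSeries.mk s.length g hg'
  have h2 := H M hm (le_trans (hge (Fin.last _)) hs.le) s'.last (by
    show PrimeSpectrum.comap π (g (Fin.last _)) = P
    rw [hg]; exact hs)
  exact le_trans (Order.length_le_height (p := s') le_rfl) h2

variable {U V : Scheme.{u}} (h : U ⟶ V) [LocallyOfFiniteType h] [IsLocallyNoetherian V]

theorem stalkDim_le_add (u' : U) (r : ℕ)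
    (hgen : ∀ ξ, ξ ⤳ u' → (∀ z, z ⤳ ξ → z = ξ) → Dual3.resTrdeg h ξ ≤ (r : Cardinal.{u})) :
    ringKrullDim (U.presheaf.stalk u') ≤ ringKrullDim (V.presheaf.stalk (h u')) + ((r : ℕ∞) : WithBot ℕ∞) := by
  obtain ⟨Vo, hV, hxV, -⟩ := exists_isAffineOpen_mem_and_subset (x := h u') (U := (⊤ : V.Opens)) trivial
  obtain ⟨Uo, hU, hxU, hUV⟩ := exists_isAffineOpen_mem_and_subset (x := u') (U := h ⁻¹ᵁ Vo) hxV
  letI := TopCat.Presheaf.algebra_section_stalk V.presheaf (⟨h u', hUV hxU⟩ : Vo)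
  haveI := hV.isLocalization_stalk ⟨h u', hUV hxU⟩
  letI := TopCat.Presheaf.algebra_section_stalk U.presheaf (⟨u', hxU⟩ : Uo)
  haveI := hU.isLocalization_stalk ⟨u', hxU⟩
  haveI : IsNoetherianRing Γ(V, Vo) := IsLocallyNoetherian.component_noetherian ⟨Vo, hV⟩
  letI := (h.appLE Vo Uo hUV).hom.toAlgebra
  haveI : Algebra.FiniteType Γ(V, Vo) Γ(U, Uo) := h.finiteType_appLE hV hU hUV
  let q' := hU.primeIdealOf ⟨u', hxU⟩
  let p' := hV.primeIdealOf ⟨h u', hUV hxU⟩
  obtain ⟨n', hn'⟩ := exists_nat_height p'.asIdeal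
  rw [IsLocalization.AtPrime.ringKrullDim_eq_height p'.asIdeal (V.presheaf.stalk (h u')), hn',
    IsLocalization.AtPrime.ringKrullDim_eq_height q'.asIdeal (U.presheaf.stalk u'),
    show q'.asIdeal.height = Order.height q' from PrimeSpectrum.height_eq_orderHeight q']
  suffices Order.height q' ≤ ((n' + r : ℕ) : ℕ∞) by
    rw [Nat.cast_add] at this
    exact_mod_cast this
  refine height_le_of_minimal q' _ fun M hM hMq Pb hPb => ?_
  obtain ⟨ξ, hξU, rfl⟩ : ∃ (ξ : U) (hξU : ξ ∈ Uo), hU.primeIdealOf ⟨ξ, hξU⟩ = M :=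
    ⟨hU.fromSpec M, hU.range_fromSpec.le (Set.mem_range_self M),
      hU.fromSpec.isOpenEmbedding.injective (hU.fromSpec_primeIdealOf _)⟩
  have hξu : ξ ⤳ u' := by
    have := (primeIdealOf_le_iff hU _ _).1 hMq
    rwa [hU.fromSpec_primeIdealOf, hU.fromSpec_primeIdealOf] at this
  have hξmax : ∀ z, z ⤳ ξ → z = ξ := fun z hz => by
    have hzU : z ∈ Uo := hz.mem_open Uo.2 hξU
    have hle : hU.primeIdealOf ⟨z, hzU⟩ ≤ hU.primeIdealOf ⟨ξ, hξU⟩ := by
      rw [primeIdealOf_le_iff hU, hU.fromSpec_primeIdealOf, hU.fromSpec_primeIdealOf]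
      exact hz
    have := congrArg hU.fromSpec (PrimeSpectrum.ext (le_antisymm hle (hM.2 ⟨inferInstance, bot_le⟩ hle)) :
      hU.primeIdealOf ⟨z, hzU⟩ = hU.primeIdealOf ⟨ξ, hξU⟩)
    rwa [hU.fromSpec_primeIdealOf, hU.fromSpec_primeIdealOf] at this
  have h0 := hgen ξ hξu hξmax
  let q := hU.primeIdealOf ⟨ξ, hξU⟩
  let p := hV.primeIdealOf ⟨h ξ, hUV hξU⟩
  haveI : q.asIdeal.LiesOver p.asIdeal := liesOver_primeIdealOf h hV hU hUV hξU
  haveI : q'.asIdeal.LiesOver p'.asIdeal := liesOver_primeIdealOf h hV hU hUV hxU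
  have hpp : p.asIdeal ≤ p'.asIdeal := by
    rw [Ideal.over_def q.asIdeal p.asIdeal, Ideal.over_def q'.asIdeal p'.asIdeal]
    exact Ideal.comap_mono hMq
  let π := Ideal.Quotient.mk p.asIdeal
  let ρ := Ideal.Quotient.mk q.asIdeal
  have hqc : Pb.asIdeal.comap ρ = q'.asIdeal := congrArg PrimeSpectrum.asIdeal hPb
  let pb : Ideal (Γ(V, Vo) ⧸ p.asIdeal) := p'.asIdeal.map π
  haveI : pb.IsPrime := Ideal.map_isPrime_of_surjective Ideal.Quotient.mk_surjective
    (by rw [Ideal.mk_ker]; exact hpp)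
  have hpc : pb.comap π = p'.asIdeal := by
    rw [Ideal.comap_map_of_surjective _ Ideal.Quotient.mk_surjective, ← RingHom.ker_eq_comap_bot,
      Ideal.mk_ker, sup_eq_left.2 hpp]
  haveI : Pb.asIdeal.LiesOver pb := ⟨by
    apply Ideal.comap_injective_of_surjective π Ideal.Quotient.mk_surjective
    rw [hpc, Ideal.over_def q'.asIdeal p'.asIdeal, Ideal.under_def, Ideal.under_def, ← hqc,
      Ideal.comap_comap, Ideal.comap_comap]
    rfl⟩
  haveI : Algebra.FiniteType (Γ(V, Vo) ⧸ p.asIdeal) (Γ(U, Uo) ⧸ q.asIdeal) :=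
    Algebra.FiniteType.of_restrictScalars_finiteType Γ(V, Vo) _ _
  obtain ⟨hq, hp, t, T, hhq, hhp, -, hT, hle, -⟩ := height_add_trdeg pb Pb.asIdeal
  rw [trdeg_residueField_eq h hV hU hUV hξU] at hT
  change Dual3.resTrdeg h ξ = (T : Cardinal) at hT
  rw [hT] at h0
  have hTr : T ≤ r := by exact_mod_cast h0
  have h1 := CodimQf.height_map_le p.asIdeal p'.asIdeal pb hpc
  rw [hhp, hn'] at h1
  have hpn : hp ≤ n' := by exact_mod_cast h1
  rw [← PrimeSpectrum.height_eq_orderHeight, hhq]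
  exact_mod_cast (show hq ≤ n' + r by omega)

end Groth.Agent.AlgSpCov.DimBound
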